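import Groth.Agent.NormBundleLib.MulNorm
import Groth.Agent.NormDescLib.Ample
import Groth.Agent.NormDescLib.Push
import Groth.Agent.QuotNormLib.Saturated
import Groth.Agent.QuotNormLib.Twist

/-!
# The norm of a relatively ample module along a finite locally free morphism
-/

set_option autoImplicit false
universe u

open CategoryTheory CategoryTheory.Limits AlgebraicGeometry TopologicalSpace Opposite
open AmpleLib
open AmpleThLib
open TwistLib (genSet)
open KFlatLib (pb puSec)
open NormDescLib (rs rs_rs rY)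

noncomputable section

namespace NormBundleLib

variable {X Y : Scheme.{u}}

/-- A module whose transition functions are norms of those of an ample one is ample. -/
theorem isAmple_of_norm (π : X ⟶ Y) [IsFinite π] [Surjective π] (hcov : ∀ y : Y, ∃ D, Good π D ∧ y ∈ D)
    {L : X.Modules} (hA : CohB1.IsAmple L) {M : Y.Modules} (hM : PicF.IsInvertible M) {ι : Type u}
    (V : ι → Y.Opens) (hV : ∀ y : Y, ∃ i, y ∈ V i) (e : ∀ i, Γ(L, π ⁻¹ᵁ V i)) (he : ∀ i, GenOn L (e i))
    (m : ∀ i, Γ(M, V i)) (hm : ∀ i, GenOn M (m i))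
    (hrel : ∀ (i j : ι) (u : Γ(X, π ⁻¹ᵁ (V i ⊓ V j))),
      u • res L (π.preimage_mono inf_le_left) (e i) = res L (π.preimage_mono inf_le_right) (e j) →
        nm π hcov (V i ⊓ V j) u • res M inf_le_left (m i) = res M inf_le_right (m j)) :
    CohB1.IsAmple M := by
  haveI : CompactSpace X := hA.2.1
  haveI : CompactSpace Y := π.surjective.compactSpace π.continuous
  obtain ⟨n, hn, hsat⟩ := NormDescLib.exists_saturated_cover π hA
  refine (isAmple_iff (hL := hM)).mpr ⟨inferInstance, fun y => ?_⟩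
  obtain ⟨W, hyW, hW, σ, hσ⟩ := hsat y
  have hLn := tensorPow_isInvertible hA.1 n
  choose c hc using fun i => exists_coeff σ (pS_genOn (he i) n)
  have hcompat : ∀ i j, res _ (inf_le_left : V i ⊓ V j ≤ V i) (nm π hcov (V i) (c i) • pS (m i) n) =
      res _ (inf_le_right : V i ⊓ V j ≤ V j) (nm π hcov (V j) (c j) • pS (m j) n) := by
    intro i j
    have ha : π ⁻¹ᵁ (V i ⊓ V j) ≤ π ⁻¹ᵁ V i := π.preimage_mono inf_le_left
    have hb : π ⁻¹ᵁ (V i ⊓ V j) ≤ π ⁻¹ᵁ V j := π.preimage_mono inf_le_right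
    obtain ⟨u, hu⟩ := (he i _ ha).2 (res L hb (e j))
    dsimp only at hu
    have h2 : rs ha (c i) = rs hb (c j) * u ^ n := by
      refine ((pS_genOn (he i) n).res ha _ le_rfl).1 ?_
      dsimp only
      rw [res_refl]
      refine ((res_smul _ ha (c i) _).symm.trans (congrArg (res _ ha) (hc i))).trans ?_
      rw [res_res, mul_smul, pS_res, ← pS_smul, hu, ← pS_res, ← res_smul, hc j, res_res]
    rw [res_smul, res_smul, pS_res, pS_res, ← hrel i j u hu, pS_smul, smul_smul]
    refine congrArg (· • _) ?_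
    change rs inf_le_left (nm π hcov (V i) (c i)) = rs inf_le_right (nm π hcov (V j) (c j)) * _ ^ n
    rw [nm_rs, nm_rs, ← map_pow, ← map_mul]
    exact congrArg _ h2
  obtain ⟨τ, hτ, -⟩ := TopCat.Sheaf.existsUnique_gluing' ((QCohLib.toAbF Y).obj (CohB1.tensorPow M n) :
      TopCat.Sheaf AddCommGrpCat.{u} Y.toTopCat) V ⊤ (fun i => homOfLE le_top)
    (fun z _ => by obtain ⟨i, hi⟩ := hV z; exact Opens.mem_iSup.mpr ⟨i, hi⟩)
    (fun i => nm π hcov (V i) (c i) • pS (m i) n) hcompat
  refine ⟨n, W, hn, ⟨τ, ?_⟩, hyW, hW⟩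
  ext z
  obtain ⟨i, hzi⟩ := hV z
  have h1 := SetLike.ext_iff.mp
    (mem_genSet_coeff (tensorPow_isInvertible hM n) τ (pS_genOn (hm i) n) (hτ i).symm) z
  simp only [Opens.mem_inf, hzi, and_true] at h1
  change z ∈ genSet _ τ ↔ z ∈ W
  rw [h1, mem_basicOpen_nm_iff π hcov (c i) hzi]
  have hkey : ∀ x, π x = z → (x ∈ X.basicOpen (c i) ↔ z ∈ W) := fun x hx => by
    have h2 := SetLike.ext_iff.mp (mem_genSet_coeff hLn σ (pS_genOn (he i) n) (hc i)) x
    rw [hσ] at h2
    have hxi : x ∈ π ⁻¹ᵁ V i := show π x ∈ V i from hx.symm ▸ hzi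
    simp only [Opens.mem_inf, hxi, and_true] at h2
    exact h2.symm.trans (show π x ∈ W ↔ z ∈ W by rw [hx])
  obtain ⟨x₀, hx₀⟩ := π.surjective z
  exact ⟨fun h => (hkey x₀ hx₀).mp (h x₀ hx₀), fun h x hx => (hkey x hx).mpr h⟩

theorem good_of_push (g : X ⟶ Y) (h : FlatMod.IsFinLocFree ((Coh.push g).obj (Coh.structureModule X))) (y : Y) :
    ∃ D, Good g D ∧ y ∈ D := by
  obtain ⟨D, n, hD, hyD, hb⟩ := NormDescLib.hasBasis_of_push g h y
  exact ⟨D, ⟨hD, n, hb⟩, hyD⟩

theorem good_of_restrict (g : X ⟶ Y) [IsAffineHom g] (hcov : ∀ y : Y, ∃ D, Good g D ∧ y ∈ D) (U : Y.Opens)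
    (z : (U : Scheme.{u})) : ∃ D, Good (g ∣_ U) D ∧ z ∈ D := by
  obtain ⟨D, ⟨hD, n, hb⟩, hzD, hDU⟩ := exists_good_le g hcov (U := U) (y := U.ι z) z.2
  have himg : U.ι ''ᵁ (U.ι ⁻¹ᵁ D) = D := by
    rw [Scheme.Hom.image_preimage_eq_opensRange_inf, Scheme.Opens.opensRange_ι, inf_eq_right.mpr hDU]
  refine ⟨U.ι ⁻¹ᵁ D, ⟨?_, n, NormDescLib.hasBasis_restrict g U _ (by rw [himg]; exact hb)⟩, hzD⟩
  rw [← U.ι.isAffineOpen_iff_of_isOpenImmersion, himg]
  exact hD

/-- **The norm of a relatively ample module is relatively ample.** -/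
theorem exists_relAmple_of_pb {X' S : Scheme.{u}} (f : X ⟶ S) [QuasiCompact f] (g : X' ⟶ X) [IsFinite g]
    [Surjective g] (hfree : FlatMod.IsFinLocFree ((Coh.push g).obj (Coh.structureModule X')))
    {L : X'.Modules} (hL : RelAmple.IsRelAmple (g ≫ f) L) :
    ∃ M : X.Modules, PicF.IsInvertible M ∧ RelAmple.IsRelAmple f M := by
  have hLi := MiscFlat6.invertible_of_relAmple hL
  have hcov := good_of_push g hfree
  choose V hyV _ e he using fun y : X => QuotNormLib.exists_genOn_saturated g hLi y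
  choose u hu using fun i j : X => (he i (g ⁻¹ᵁ (V i ⊓ V j)) (g.preimage_mono inf_le_left)).2
    (res L (g.preimage_mono inf_le_right) (e j))
  dsimp only at hu
  let C : ∀ i j : X, Γ(X, V i ⊓ V j) := fun i j => nm g hcov _ (u i j)
  have hrel : ∀ (i j : X) (W : X.Opens) (hi : W ≤ V i) (hj : W ≤ V j),
      rs (g.preimage_mono (le_inf hi hj)) (u i j) • res L (g.preimage_mono hi) (e i) =
        res L (g.preimage_mono hj) (e j) := fun i j W hi hj => by
    have := congrArg (res L (g.preimage_mono (le_inf hi hj))) (hu i j)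
    rwa [res_smul, res_res, res_res] at this
  have hC : ∀ (i j : X) (W : X.Opens) (h : W ≤ V i ⊓ V j),
      rY h (C i j) = nm g hcov W (rs (g.preimage_mono h) (u i j)) := fun i j W h => nm_rs g hcov h _
  obtain ⟨M, hM, m, hm, hmr⟩ := QuotNormLib.exists_invertible_of_transition (V := V) (C := C)
    (fun y => ⟨y, hyV y⟩)
    (fun i W h => by
      rw [hC]
      have : rs (g.preimage_mono h) (u i i) = 1 := by
        refine (he i (g ⁻¹ᵁ W) (g.preimage_mono (h.trans inf_le_left))).1 ?_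
        dsimp only
        rw [one_smul]
        exact hrel i i W (h.trans inf_le_left) (h.trans inf_le_right)
      rw [this, map_one])
    (fun i j k W hij hjk hik => by
      rw [hC, hC, hC, ← map_mul]
      refine congrArg (nm g hcov W) ((he i (g ⁻¹ᵁ W) (g.preimage_mono (hij.trans inf_le_left))).1 ?_)
      have h1 := hrel i j W (hij.trans inf_le_left) (hij.trans inf_le_right)
      have h2 := hrel j k W (hjk.trans inf_le_left) (hjk.trans inf_le_right)
      have h3 := hrel i k W (hik.trans inf_le_left) (hik.trans inf_le_right)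
      dsimp only
      rw [h3, ← h2, ← h1, smul_smul, mul_comm])
  refine ⟨M, hM, MiscFlat6.isRelAmple_of_local f fun _ => ⟨⊤, trivial, fun A hA _ => ?_⟩⟩
  let U := f ⁻¹ᵁ A
  let U' := g ⁻¹ᵁ U
  haveI : IsFinite (g ∣_ U) := IsZariskiLocalAtTarget.restrict ‹IsFinite g› U
  haveI : Surjective (g ∣_ U) := IsZariskiLocalAtTarget.restrict ‹Surjective g› U
  have hcov' := good_of_restrict g hcov U
  have hLU : CohB1.IsAmple (pb U'.ι L) := by
    have h1 : CohB1.IsAmple (L.restrict U'.ι) := hL.2 ⟨A, hA⟩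
    exact AmpleDevLib.isAmple_of_iso h1.1 (AmpleDevLib.isInvertible_pb U'.ι hLi)
      ((Scheme.Modules.restrictFunctorIsoPullback U'.ι).app L) h1
  have hMU := AmpleDevLib.isInvertible_pb U.ι hM
  have hAU : CohB1.IsAmple (pb U.ι M) := by
    refine isAmple_of_norm (g ∣_ U) hcov' hLU hMU (fun i => U.ι ⁻¹ᵁ V i) (fun z => ⟨U.ι z, hyV _⟩)
      (fun i => res (pb U'.ι L) (preimage_restrict_le g U (V i)) (puSec U'.ι (e i)))
      (fun i => (AmpleDevLib.puSec_genOn U'.ι (he i)).res _) (fun i => puSec U.ι (m i))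
      (fun i => AmpleDevLib.puSec_genOn U.ι (hm i)) fun i j w hw => ?_
    have key : ∀ w : Γ((U' : Scheme.{u}), (g ∣_ U) ⁻¹ᵁ (U.ι ⁻¹ᵁ (V i ⊓ V j))),
        w • res (pb U'.ι L) (((g ∣_ U).preimage_mono (U.ι.preimage_mono inf_le_left)).trans
            (preimage_restrict_le g U (V i))) (puSec U'.ι (e i)) =
          res (pb U'.ι L) (((g ∣_ U).preimage_mono (U.ι.preimage_mono inf_le_right)).trans
            (preimage_restrict_le g U (V j))) (puSec U'.ι (e j)) →
        nm (g ∣_ U) hcov' (U.ι ⁻¹ᵁ (V i ⊓ V j)) w • res (pb U.ι M) (U.ι.preimage_mono inf_le_left) (puSec U.ι (m i)) =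
          res (pb U.ι M) (U.ι.preimage_mono inf_le_right) (puSec U.ι (m j)) := by
      intro w hw
      have hle := preimage_restrict_le g U (V i ⊓ V j)
      have h1 : w = rs hle (U'.ι.app _ (u i j)) := by
        refine ((AmpleDevLib.puSec_genOn U'.ι (he i)) _
          (((g ∣_ U).preimage_mono (U.ι.preimage_mono (inf_le_left : V i ⊓ V j ≤ V i))).trans
            (preimage_restrict_le g U (V i)))).1 ?_
        dsimp only
        refine hw.trans ?_
        have h2 := congrArg (fun z => res (pb U'.ι L) hle (puSec U'.ι z)) (hu i j)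
        rw [TwistLib.puSec_smul, res_smul, TwistLib.puSec_res, TwistLib.puSec_res, res_res, res_res] at h2
        exact h2.symm
      rw [h1, nm_restrict g hcov U hcov' (u i j)]
      have h3 := congrArg (puSec U.ι) (hmr i j (V i ⊓ V j) inf_le_left inf_le_right)
      rw [TwistLib.puSec_smul, TwistLib.puSec_res, TwistLib.puSec_res] at h3
      have e0 : rY (le_inf (inf_le_left : V i ⊓ V j ≤ V i) inf_le_right) (C i j) = C i j :=
        AmpleLib.res_refl (Coh.structureModule X) (C i j)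
      rw [e0] at h3
      exact h3
    rw [res_res, res_res] at hw
    exact key w hw
  exact AmpleDevLib.isAmple_of_iso hMU (restrict_isInvertible hM U.ι)
    ((Scheme.Modules.restrictFunctorIsoPullback U.ι).app M).symm hAU

end NormBundleLib
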