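import Groth.Agent.NormDescLib.Free
import Groth.Agent.NormDescLib.Relative

/-!
# The norm of a finite locally free algebra, of any rank
-/

set_option autoImplicit false
universe u

open CategoryTheory CategoryTheory.Limits AlgebraicGeometry TopologicalSpace Opposite
open NormDescLib (rs rs_rs HasBasis normR)

noncomputable section

namespace NormBundleLib

variable {X Y : Scheme.{u}} (π : X ⟶ Y)

/-- An affine open over which the algebra of functions is free. -/
def Good (D : Y.Opens) : Prop := IsAffineOpen D ∧ ∃ n, HasBasis (π.app D).hom n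

/-- The norm of functions over an open, characterised over the good opens. -/
def IsNorm {U : Y.Opens} (s : Γ(X, π ⁻¹ᵁ U)) (t : Γ(Y, U)) : Prop :=
  ∀ (D : Y.Opens), Good π D → ∀ h : D ≤ U, rs h t = normR (π.app D).hom (rs (π.preimage_mono h) s)

variable [IsAffineHom π]

theorem basic {D : Y.Opens} (hD : Good π D) (f : Γ(Y, D)) :
    Good π (Y.basicOpen f) ∧ ∀ s : Γ(X, π ⁻¹ᵁ D),
      normR (π.app (Y.basicOpen f)).hom (rs (π.preimage_mono (Y.basicOpen_le f)) s) =
        rs (Y.basicOpen_le f) (normR (π.app D).hom s) := by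
  obtain ⟨hA, n, hb⟩ := hD
  obtain ⟨h1, h2⟩ := NormDescLib.FreeOn.basic π (d := n) hA f hb
  exact ⟨⟨hA.basicOpen f, n, h1⟩, h2⟩

theorem normR_congr {D E : Y.Opens} (e : D = E) {U : Y.Opens} (hD : D ≤ U) (hE : E ≤ U)
    (s : Γ(X, π ⁻¹ᵁ U)) :
    normR (π.app E).hom (rs (π.preimage_mono hE) s) =
      rs e.ge (normR (π.app D).hom (rs (π.preimage_mono hD) s)) := by
  subst e
  exact (AmpleLib.res_refl (Coh.structureModule Y) _).symm

variable (hcov : ∀ y : Y, ∃ D, Good π D ∧ y ∈ D)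

include hcov in
theorem exists_good_le {U : Y.Opens} {y : Y} (hy : y ∈ U) : ∃ D, Good π D ∧ y ∈ D ∧ D ≤ U := by
  obtain ⟨D, hD, hyD⟩ := hcov y
  obtain ⟨f, hf, hyf⟩ := hD.1.exists_basicOpen_le (V := U) ⟨y, hy⟩ hyD
  exact ⟨_, (basic π hD f).1, hyf, hf⟩

include hcov in
theorem existsUnique_isNorm (U : Y.Opens) (s : Γ(X, π ⁻¹ᵁ U)) : ∃! t, IsNorm π s t := by
  let ι := {D : Y.Opens // Good π D ∧ D ≤ U}
  obtain ⟨t, ht, huniq⟩ := Y.sheaf.existsUnique_gluing' (fun D : ι => D.1) U (fun D => homOfLE D.2.2)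
    (fun y hy => by
      obtain ⟨D, hD, hyD, hDU⟩ := exists_good_le π hcov hy
      exact Opens.mem_iSup.mpr ⟨⟨D, hD, hDU⟩, hyD⟩)
    (fun D => normR (π.app D.1).hom (rs (π.preimage_mono D.2.2) s))
    (fun D E => by
      refine TopCat.Presheaf.section_ext Y.sheaf _ _ _ fun y hy => ?_
      obtain ⟨f, g, hfg, hyf⟩ := exists_basicOpen_le_affine_inter D.2.1.1 E.2.1.1 y hy
      have key := normR_congr π hfg ((Y.basicOpen_le f).trans D.2.2) ((Y.basicOpen_le g).trans E.2.2) s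
      have h1 := (basic π D.2.1 f).2 (rs (π.preimage_mono D.2.2) s)
      have h2 := (basic π E.2.1 g).2 (rs (π.preimage_mono E.2.2) s)
      rw [rs_rs] at h1 h2
      rw [h1, h2, rs_rs] at key
      have hyg : y ∈ Y.basicOpen g := hfg ▸ hyf
      have := congrArg (Y.presheaf.germ _ y hyg) key
      simp only [rs, TopCat.Presheaf.germ_res_apply] at this ⊢
      exact this.symm)
  exact ⟨t, fun D hD h => ht ⟨D, hD, h⟩, fun t' ht' => huniq t' fun D => ht' D.1 D.2.1 D.2.2⟩

/-- The norm. -/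
def nm (U : Y.Opens) : Γ(X, π ⁻¹ᵁ U) →* Γ(Y, U) where
  toFun s := (existsUnique_isNorm π hcov U s).choose
  map_one' := ((existsUnique_isNorm π hcov U 1).choose_spec.2 1 fun D hD h => by
    rw [NormDescLib.rs_one, NormDescLib.rs_one, map_one]).symm
  map_mul' a b := ((existsUnique_isNorm π hcov U (a * b)).choose_spec.2 _ fun D hD h => by
    rw [NormDescLib.rs_mul, NormDescLib.rs_mul, map_mul,
      (existsUnique_isNorm π hcov U a).choose_spec.1 D hD h, (existsUnique_isNorm π hcov U b).choose_spec.1 D hD h]).symm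

theorem isNorm_nm {U : Y.Opens} (s : Γ(X, π ⁻¹ᵁ U)) : IsNorm π s (nm π hcov U s) :=
  (existsUnique_isNorm π hcov U s).choose_spec.1

theorem nm_eq {U : Y.Opens} {s : Γ(X, π ⁻¹ᵁ U)} {t : Γ(Y, U)} (h : IsNorm π s t) : nm π hcov U s = t :=
  ((existsUnique_isNorm π hcov U s).choose_spec.2 t h).symm

theorem nm_rs {U V : Y.Opens} (h : V ≤ U) (s : Γ(X, π ⁻¹ᵁ U)) :
    rs h (nm π hcov U s) = nm π hcov V (rs (π.preimage_mono h) s) := by
  refine (nm_eq π hcov fun D hD hDV => ?_).symm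
  rw [rs_rs, isNorm_nm π hcov s D hD, rs_rs]

/-- The norm is invertible exactly where the function is invertible on the whole fibre. -/
theorem mem_basicOpen_nm_iff [IsFinite π] {U : Y.Opens} (s : Γ(X, π ⁻¹ᵁ U)) {y : Y} (hy : y ∈ U) :
    y ∈ Y.basicOpen (nm π hcov U s) ↔ ∀ x, π x = y → x ∈ X.basicOpen s := by
  constructor
  · rintro h x rfl
    obtain ⟨D, hD, hxD, hDle⟩ := exists_good_le π hcov h
    have hDU : D ≤ U := hDle.trans (Y.basicOpen_le _)
    have hu : IsUnit (rs hDU (nm π hcov U s)) := by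
      rw [show rs hDU (nm π hcov U s) = rs hDle (rs (Y.basicOpen_le _) (nm π hcov U s)) from (rs_rs _ _ _).symm]
      exact (RingedSpace.isUnit_res_basicOpen _ (nm π hcov U s)).map _
    rw [isNorm_nm π hcov s D hD] at hu
    obtain ⟨n, hb⟩ := hD.2
    have h1 := NormDescLib.isUnit_of_normR hb hu
    have h2 := X.basicOpen_of_isUnit h1
    have h3 : x ∈ X.basicOpen (rs (π.preimage_mono hDU) s) := h2.ge hxD
    rw [rs, Scheme.basicOpen_res] at h3
    exact h3.2
  · intro h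
    let W : Y.Opens := U ⊓ ⟨(π '' (X.basicOpen s : Set X)ᶜ)ᶜ,
      (π.isClosedMap _ (X.basicOpen s).2.isClosed_compl).isOpen_compl⟩
    have hW : π ⁻¹ᵁ W ≤ X.basicOpen s := fun x hx => not_not.mp fun hn => hx.2 ⟨x, hn, rfl⟩
    have hu : IsUnit (rs (π.preimage_mono (inf_le_left : W ≤ U)) s) := by
      rw [← rs_rs (X.basicOpen_le s) hW]
      exact (RingedSpace.isUnit_res_basicOpen _ s).map _
    have hN : IsUnit (rs (inf_le_left : W ≤ U) (nm π hcov U s)) := by
      rw [nm_rs]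
      exact hu.map _
    have hyW : y ∈ W := ⟨hy, fun ⟨x, hx, hxy⟩ => hx (h x hxy)⟩
    have h2 := Y.basicOpen_of_isUnit hN
    have h3 : y ∈ Y.basicOpen (rs (inf_le_left : W ≤ U) (nm π hcov U s)) := h2.ge hyW
    rw [rs, Scheme.basicOpen_res] at h3
    exact h3.2

omit [IsAffineHom π] in
theorem good_restrict (U : Y.Opens) {D' : (U : Scheme.{u}).Opens} (h : Good (π ∣_ U) D') :
    Good π (U.ι ''ᵁ D') ∧ ∀ s : Γ(X, π ⁻¹ᵁ (U.ι ''ᵁ D')),
      normR ((π ∣_ U).app D').hom
          (X.presheaf.map (eqToHom (image_morphismRestrict_preimage π U D')).op s) =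
        normR (π.app (U.ι ''ᵁ D')).hom s := by
  obtain ⟨hD', n, hb⟩ := h
  let e := X.presheaf.map (eqToHom (image_morphismRestrict_preimage π U D')).op
  let e' := X.presheaf.map (eqToHom (image_morphismRestrict_preimage π U D').symm).op
  have he : e ≫ e' = 𝟙 _ := by
    rw [← Functor.map_comp, ← op_comp, eqToHom_trans, eqToHom_refl, op_id, CategoryTheory.Functor.map_id]
  have hb' : HasBasis (π.app (U.ι ''ᵁ D')).hom n := by
    rw [morphismRestrict_app] at hb
    exact NormDescLib.hasBasis_congr (RingHom.id _) e'.hom Function.bijective_id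
      (ConcreteCategory.bijective_of_isIso _)
      (RingHom.ext fun a => (ConcreteCategory.congr_hom he (π.app (U.ι ''ᵁ D') a)).symm) hb
  refine ⟨⟨hD'.image_of_isOpenImmersion U.ι, n, hb'⟩, fun s => ?_⟩
  have hcomm : ((π ∣_ U).app D').hom.comp (RingHom.id _) = e.hom.comp (π.app (U.ι ''ᵁ D')).hom := by
    rw [morphismRestrict_app, RingHom.comp_id]
    rfl
  refine (NormDescLib.normR_away (RingHom.id _) e.hom hcomm (1 : Γ(Y, U.ι ''ᵁ D')) ?_ ?_ hb').2 s
  · letI := (RingHom.id Γ(Y, U.ι ''ᵁ D')).toAlgebra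
    exact IsLocalization.away_of_isUnit_of_bijective _ isUnit_one Function.bijective_id
  · letI := e.hom.toAlgebra
    exact IsLocalization.away_of_isUnit_of_bijective _ ((isUnit_one).map _) (ConcreteCategory.bijective_of_isIso e)

variable (U : Y.Opens) [IsAffineHom (π ∣_ U)] (hcov' : ∀ y : (U : Scheme.{u}), ∃ D, Good (π ∣_ U) D ∧ y ∈ D)

theorem preimage_restrict_le (V : Y.Opens) :
    (π ∣_ U) ⁻¹ᵁ (U.ι ⁻¹ᵁ V) ≤ (π ⁻¹ᵁ U).ι ⁻¹ᵁ (π ⁻¹ᵁ V) := by
  rw [← Scheme.Hom.comp_preimage, ← Scheme.Hom.comp_preimage, morphismRestrict_ι]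

/-- The norm commutes with restriction to an open. -/
theorem nm_restrict {V : Y.Opens} (s : Γ(X, π ⁻¹ᵁ V)) :
    nm (π ∣_ U) hcov' (U.ι ⁻¹ᵁ V)
        (rs (preimage_restrict_le π U V) ((π ⁻¹ᵁ U).ι.app (π ⁻¹ᵁ V) s)) =
      U.ι.app V (nm π hcov V s) := by
  refine nm_eq (π ∣_ U) hcov' fun D' hD' hD'V => ?_
  obtain ⟨hD, hnorm⟩ := good_restrict π U hD'
  have hDV : U.ι ''ᵁ D' ≤ V := by
    rintro _ ⟨y, hy, rfl⟩
    exact hD'V hy
  have h1 := isNorm_nm π hcov s _ hD hDV
  rw [Scheme.Opens.ι_app, Scheme.Opens.ι_app]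
  refine Eq.trans ?_ (Eq.trans (h1.trans (hnorm _).symm) ?_)
  · simp only [rs, ← CommRingCat.comp_apply]
    exact ConcreteCategory.congr_hom ((Y.presheaf.map_comp _ _).symm.trans rfl) _
  · refine congrArg (normR ((π ∣_ U).app D').hom) ?_
    simp only [rs, ← CommRingCat.comp_apply]
    refine ConcreteCategory.congr_hom ?_ s
    change X.presheaf.map _ ≫ X.presheaf.map _ = (X.presheaf.map _ ≫ X.presheaf.map _) ≫ X.presheaf.map _
    rw [← Functor.map_comp, ← Functor.map_comp, ← Functor.map_comp]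
    rfl

end NormBundleLib
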